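import Groth.Agent.L09.HiggsStack.Twist
import Groth.Agent.L09.ModStack.Main

/-!
# Morphisms of pairs
-/

set_option autoImplicit false
set_option linter.style.haveILetI false
set_option backward.isDefEq.respectTransparency false
set_option backward.isDefEq.respectTransparency.types false

universe u

open CategoryTheory CategoryTheory.Limits AlgebraicGeometry Opposite

noncomputable section

namespace Groth.L09.HiggsStack

open Groth.L27.Assoc (Mo θ ext_pull)
open Groth.L09.ModStack (θi θ_pull map_pull ext_pull₂ tr θ_assoc)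

variable {X S : Scheme.{u}} {f : X ⟶ S} {F : X.Modules}

theorem compat_cancel {A B C : HiggsSt.Obj f F} {g₁ : A.toObj ⟶ B.toObj} {g₂ : B.toObj ⟶ C.toObj}
    (h₂ : HiggsSt.Obj.Compat B C g₂) (h₁₂ : HiggsSt.Obj.Compat A C (g₁ ≫ g₂)) :
    HiggsSt.Obj.Compat A B g₁ := by
  rw [compat_iff] at h₂ h₁₂ ⊢
  refine (g₂.cart _).1 ?_
  show g₂.c ≫ (Scheme.Modules.pushforward g₂.top).map (B.φ ≫ Tof g₁) =
    g₂.c ≫ (Scheme.Modules.pushforward g₂.top).map (g₁.c ≫ (Scheme.Modules.pushforward g₁.top).map A.φ)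
  rw [← cancel_mono ((Scheme.Modules.pushforwardComp g₁.top g₂.top).hom.app (CohB1.tensorMod A.E A.FT)),
    Functor.map_comp, ← Category.assoc g₂.c, ← h₂, Category.assoc C.φ, Category.assoc C.φ,
    Category.assoc (Tof g₂), ← Tof_comp, h₁₂, ModSt.Obj.comp_c, Functor.map_comp]
  simp only [Category.assoc]
  exact congrArg (fun z => g₂.c ≫ (Scheme.Modules.pushforward g₂.top).map g₁.c ≫ z)
    ((Scheme.Modules.pushforwardComp g₁.top g₂.top).hom.naturality A.φ).symm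

theorem compat_of_cover {A B : HiggsSt.Obj f F} (g : A.toObj ⟶ B.toObj) {κ : Type u} {z : κ → HiggsSt.Obj f F}
    (π : ∀ k, (z k).toObj ⟶ A.toObj)
    (hcov : Presieve.ofArrows (fun k => (z k).XT) (fun k => (π k).top) ∈ Scheme.fpqcPrecoverage A.XT)
    [Coh.IsQCoh (CohB1.tensorMod A.E A.FT)] (h₁ : ∀ k, HiggsSt.Obj.Compat (z k) A (π k))
    (h₂ : ∀ k, HiggsSt.Obj.Compat (z k) B (π k ≫ g)) : HiggsSt.Obj.Compat A B g := by
  rw [compat_iff]
  refine eq_of_cover hcov (fun k => Tof (π k)) (fun k => isIso_adjn_Tof (π k)) fun k => ?_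
  have e₁ := (compat_iff _).1 (h₁ k)
  have e₂ := (compat_iff _).1 (h₂ k)
  rw [← cancel_mono ((Scheme.Modules.pushforwardComp (π k).top g.top).hom.app
      (CohB1.tensorMod (z k).E (z k).FT)),
    Category.assoc B.φ, Category.assoc B.φ, Category.assoc (Tof g), ← Tof_comp, e₂, ModSt.Obj.comp_c,
]
  simp only [Category.assoc]
  rw [← Functor.map_comp_assoc, e₁, Functor.map_comp_assoc]
  exact congrArg (fun w => g.c ≫ (Scheme.Modules.pushforward g.top).map (π k).c ≫ w)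
    ((Scheme.Modules.pushforwardComp (π k).top g.top).hom.naturality (z k).φ)

theorem isCart_unit {Y Z : Scheme.{u}} (h : Y ⟶ Z) (N : Z.Modules) :
    ModSt.IsCart h ((Scheme.Modules.pullbackPushforwardAdjunction h).unit.app N) := by
  rw [← Adjunction.homEquiv_id]
  exact @Groth.L09.ModStack.isCart_homEquiv _ _ h _ _ (𝟙 _) inferInstance

/-- The pair on a module over a base change given by a twisted endomorphism into the chosen pullback. -/
abbrev mkObj (x : ModSt.Obj f) (φ : x.E ⟶ CohB1.tensorMod x.E (Mo F x.p)) : HiggsSt.Obj f F :=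
  { toObj := x
    FT := Mo F x.p
    ι := (Scheme.Modules.pullbackPushforwardAdjunction x.p).unit.app F
    ιcart := isCart_unit x.p F
    φ := φ }

theorem Tof_mkObj_congr {A : HiggsSt.Obj f F} {x : ModSt.Obj f} (φ φ' : x.E ⟶ CohB1.tensorMod x.E (Mo F x.p))
    (g : A.toObj ⟶ x) : Tof (B := mkObj x φ) g = Tof (B := mkObj x φ') g := rfl

theorem exists_over {z : ModSt.Obj f} {B : HiggsSt.Obj f F} (g : z ⟶ B.toObj) :
    ∃ φ : z.E ⟶ CohB1.tensorMod z.E (Mo F z.p), HiggsSt.Obj.Compat (mkObj z φ) B g := by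
  refine ⟨inv (tr g) ≫ adjn g.top (B.φ ≫ Tof (A := mkObj z 0) g), ?_⟩
  rw [compat_iff]
  refine adjn_injective g.top _ _ ?_
  rw [adjn_push]
  show adjn g.top (B.φ ≫ Tof (A := mkObj z 0) g) = tr g ≫ inv (tr g) ≫ _
  rw [IsIso.hom_inv_id_assoc]

/-- The chosen pair over a morphism of modules. -/
def overObj {z : ModSt.Obj f} {B : HiggsSt.Obj f F} (g : z ⟶ B.toObj) : HiggsSt.Obj f F :=
  mkObj z (exists_over g).choose

/-- The morphism of pairs over a morphism of modules. -/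
def overHom {z : ModSt.Obj f} {B : HiggsSt.Obj f F} (g : z ⟶ B.toObj) : overObj g ⟶ B :=
  ⟨g, (exists_over g).choose_spec⟩

/-- Transport of a morphism of pullbacks to a point. -/
def xi {T Y Z : Scheme.{u}} {M N : Z.Modules} {h : Y ⟶ Z} (η : Mo M h ⟶ Mo N h) (l : T ⟶ Y) (q : T ⟶ Z)
    (w : l ≫ h = q) : Mo M q ⟶ Mo N q :=
  (θi M l h q w).inv ≫ (Scheme.Modules.pullback l).map η ≫ θ N l h q w

theorem θ_map {T Y Z : Scheme.{u}} {M N : Z.Modules} (φ : M ⟶ N) (g : T ⟶ Y) (v : Y ⟶ Z) (v' : T ⟶ Z)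
    (w : g ≫ v = v') :
    (Scheme.Modules.pullback g).map ((Scheme.Modules.pullback v).map φ) ≫ θ N g v v' w =
      θ M g v v' w ≫ (Scheme.Modules.pullback v').map φ := by
  subst w
  refine ext_pull₂ g v fun V s => ?_
  rw [Scheme.Modules.Hom.comp_app, Scheme.Modules.Hom.comp_app]
  refine (congrArg ((θ N g v (g ≫ v) rfl).app (g ⁻¹ᵁ (v ⁻¹ᵁ V)))
    ((map_pull g ((Scheme.Modules.pullback v).map φ) (v ⁻¹ᵁ V) (Groth.L18.Frame.pull v M V s)).trans
      (congrArg (Groth.L18.Frame.pull g (Mo N v) (v ⁻¹ᵁ V)) (map_pull v φ V s)))).trans ?_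
  refine (θ_pull N g v (g ≫ v) rfl V (φ.app V s)).trans ?_
  refine Eq.trans ?_ (congrArg (((Scheme.Modules.pullback (g ≫ v)).map φ).app (g ⁻¹ᵁ (v ⁻¹ᵁ V)))
    (θ_pull M g v (g ≫ v) rfl V s)).symm
  rw [Groth.L18.Frame.rs_self, Groth.L18.Frame.rs_self]
  exact (map_pull (g ≫ v) φ V s).symm

/-- Transport along a composite. -/
theorem xi_comp {T Y Y' Z : Scheme.{u}} {M N : Z.Modules} {h : Y ⟶ Z} {u' : Y' ⟶ Z} (η : Mo M h ⟶ Mo N h)
    (η' : Mo M u' ⟶ Mo N u') (t : Y' ⟶ Y) (wt : t ≫ h = u')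
    (hη : (Scheme.Modules.pullback t).map η ≫ θ N t h u' wt = θ M t h u' wt ≫ η') (l' : T ⟶ Y') (l : T ⟶ Y)
    (q : T ⟶ Z) (hl : l' ≫ t = l) (w : l ≫ h = q) (w' : l' ≫ u' = q) : xi η l q w = xi η' l' q w' := by
  have e1 := congrArg ((Scheme.Modules.pullback l').map) hη
  rw [Functor.map_comp, Functor.map_comp] at e1
  have hN := θ_assoc N l' t h l u' q wt w' hl w
  have hM := θ_assoc M l' t h l u' q wt w' hl w
  -- `θ (Mo _ h)` is natural
  have nat : (Scheme.Modules.pullback l').map ((Scheme.Modules.pullback t).map η) ≫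
      θ (Mo N h) l' t l hl = θ (Mo M h) l' t l hl ≫ (Scheme.Modules.pullback l).map η := θ_map η l' t l hl
  have key : (θi (Mo M h) l' t l hl).hom ≫ (θi M l h q w).hom ≫ xi η l q w =
      (θi (Mo M h) l' t l hl).hom ≫ (θi M l h q w).hom ≫ xi η' l' q w' := by
    simp only [xi]
    rw [Iso.hom_inv_id_assoc]
    show θ (Mo M h) l' t l hl ≫ (Scheme.Modules.pullback l).map η ≫ θ N l h q w =
      θ (Mo M h) l' t l hl ≫ θ M l h q w ≫ _
    rw [← Category.assoc, ← nat, Category.assoc, ← hN, ← Category.assoc, e1, Category.assoc,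
      ← Category.assoc (θ (Mo M h) l' t l hl), ← hM, Category.assoc]
    exact congrArg (_ ≫ ·) (Iso.hom_inv_id_assoc (θi M l' u' q w') _).symm
  exact (cancel_epi _).1 ((cancel_epi _).1 key)

/-- The pulled back twisted endomorphism at a morphism of modules. -/
def eta {B C : HiggsSt.Obj f F} (g : B.toObj ⟶ C.toObj) :
    Mo C.E g.top ⟶ Mo (CohB1.tensorMod C.E C.FT) g.top :=
  haveI := isIso_adjn_Tof g
  adjn g.top (g.c ≫ (Scheme.Modules.pushforward g.top).map B.φ) ≫ inv (adjn g.top (Tof g))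

theorem eta_Tof {B C : HiggsSt.Obj f F} (g : B.toObj ⟶ C.toObj) :
    eta g ≫ adjn g.top (Tof g) = adjn g.top (g.c ≫ (Scheme.Modules.pushforward g.top).map B.φ) := by
  haveI := isIso_adjn_Tof g
  rw [eta, Category.assoc, IsIso.inv_hom_id, Category.comp_id]

theorem eta_natural {A B C : HiggsSt.Obj f F} {g₁ : A.toObj ⟶ B.toObj} (h₁ : HiggsSt.Obj.Compat A B g₁)
    (g₂ : B.toObj ⟶ C.toObj) (g₁₂ : A.toObj ⟶ C.toObj) (e : g₁ ≫ g₂ = g₁₂) (w : g₁.top ≫ g₂.top = g₁₂.top) :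
    (Scheme.Modules.pullback g₁.top).map (eta g₂) ≫
        θ (CohB1.tensorMod C.E C.FT) g₁.top g₂.top g₁₂.top w =
      θ C.E g₁.top g₂.top g₁₂.top w ≫ eta g₁₂ := by
  subst e
  haveI := isIso_adjn_Tof (g₁ ≫ g₂)
  rw [← cancel_mono (adjn (g₁ ≫ g₂).top (Tof (g₁ ≫ g₂))), Category.assoc, Category.assoc, eta_Tof]
  rw [adjn_comp (Tof g₁) (Tof g₂) (g₁ ≫ g₂).top w (Tof (g₁ ≫ g₂)) (heq_of_eq (Tof_comp g₁ g₂)),
    ← Category.assoc, ← Functor.map_comp, eta_Tof]
  rw [adjn_comp (g₁.c ≫ (Scheme.Modules.pushforward g₁.top).map A.φ) g₂.c (g₁ ≫ g₂).top w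
    ((g₁ ≫ g₂).c ≫ (Scheme.Modules.pushforward (g₁ ≫ g₂).top).map A.φ) (heq_of_eq ?_)]
  · rw [adjn_push g₂.top, Functor.map_comp, Category.assoc, ← adjn_pre, ((compat_iff g₁).1 h₁)]
  · rw [ModSt.Obj.comp_c, Functor.map_comp]
    simp only [Category.assoc]
    exact congrArg (fun z => g₂.c ≫ (Scheme.Modules.pushforward g₂.top).map g₁.c ≫ z)
      ((Scheme.Modules.pushforwardComp g₁.top g₂.top).hom.naturality A.φ).symm

end Groth.L09.HiggsStack
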