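import Groth.Agent.L09.HiggsStack.Morph
import Groth.Agent.L29.DCoh.PCQCoh
import Groth.Agent.L29.DCoh.QCohLocal
import Mathlib.AlgebraicGeometry.Sites.Proetale

/-!
# Pairs of a module and a twisted endomorphism form an fpqc stack
-/

set_option autoImplicit false
set_option linter.style.haveILetI false
set_option backward.isDefEq.respectTransparency false
set_option backward.isDefEq.respectTransparency.types false

universe u

open CategoryTheory CategoryTheory.Limits AlgebraicGeometry Opposite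

noncomputable section

namespace Groth.L09.HiggsStack

open Groth.L27.Assoc (Mo θ)
open Groth.L09.ModStack (θi θ_assoc toDD_hom_θ bc bcHom cover_bc isCohObj_bc isQCoh_of_isCohObj
  descendsFpqc_isCohObj ak cObj nA nK cover_cObj exists_cocone mem_fpqc_of_squares eb mp A u_ β dTo lq lq_top
  mem_of_point isStack_coh_fpqc)
open Groth.Agent.S17417 (existsUnique_lift isFP_pullback)

variable {X S : Scheme.{u}} {f : X ⟶ S} {F : X.Modules}

theorem isQCoh_twisted [Coh.IsQCoh F] (A : HiggsSt.Obj f F) (hA : ModSt.IsCohObj A.toObj) :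
    Coh.IsQCoh (CohB1.tensorMod A.E A.FT) := by
  haveI := isQCoh_of_isCohObj _ hA
  haveI := Groth.L16.AffineBC.isQCoh_pullback A.p F
  haveI : IsIso (adjn A.p A.ι) := Groth.L09.ModStack.isIso_homEquiv_symm A.p A.ιcart
  haveI : Coh.IsQCoh A.FT := Groth.L29.DC.isQCoh_of_iso' (asIso (adjn A.p A.ι)) inferInstance
  exact Groth.L00.Tensor.isQCoh_tensorMod _ _

/-- A pair with the module condition, over a morphism of modules. -/
def overEndo {z : ModSt.Obj f} (hz : ModSt.IsCohObj z) {B : HiggsSt.Obj f F} (g : z ⟶ B.toObj) :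
    (HiggsSt.Endo f F).obj := ⟨overObj g, hz⟩

theorem isFibGrpd_endo : FibCat.IsFibGrpd (HiggsSt.Endo f F).p where
  exists_lift {x V} h := by
    have hc : IsPullback (pullback.fst x.obj.toObj.q h.left) (pullback.snd x.obj.toObj.q h.left)
        x.obj.toObj.q h.left := IsPullback.of_hasPullback _ _
    let z : ModSt.Obj f := Groth.Agent.S17417.pull x.obj.toObj h
    have hz : ModSt.IsCohObj z :=
      ⟨Groth.L17.FlatPair.isFlatOver_pullback hc x.property.1, isFP_pullback _ _ x.property.2⟩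
    refine ⟨overEndo hz (Groth.Agent.S17417.pullHom x.obj.toObj h),
      ObjectProperty.homMk (overHom (Groth.Agent.S17417.pullHom x.obj.toObj h)), ?_⟩
    exact Functor.IsHomLift.map (p := (HiggsSt.Endo f F).p)
      (ObjectProperty.homMk (overHom (Groth.Agent.S17417.pullHom x.obj.toObj h)) :
        overEndo hz (Groth.Agent.S17417.pullHom x.obj.toObj h) ⟶ x)
  isStronglyCartesian {y x} φ :=
    { universal_property' := fun {z} g φ' hφ' => by
        have hg : g ≫ φ.hom.hom.base = φ'.hom.hom.base :=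
          IsHomLift.eq_of_isHomLift (HiggsSt.Endo f F).p (g ≫ (HiggsSt.Endo f F).p.map φ) φ'
        obtain ⟨χ, ⟨hb, hc⟩, huniq⟩ := existsUnique_lift φ.hom.hom φ'.hom.hom g hg
        subst hb
        let χ' : z ⟶ y := ObjectProperty.homMk ⟨χ, compat_cancel φ.hom.compat (by rw [hc]; exact φ'.hom.compat)⟩
        refine ⟨χ', ⟨Functor.IsHomLift.map (p := (HiggsSt.Endo f F).p) χ',
          InducedCategory.hom_ext (HiggsSt.Obj.hom_ext hc)⟩, ?_⟩
        rintro χ'' ⟨hχ'', hc''⟩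
        exact InducedCategory.hom_ext (HiggsSt.Obj.hom_ext (huniq χ''.hom.hom
          ⟨(IsHomLift.eq_of_isHomLift (HiggsSt.Endo f F).p χ.base χ'').symm,
            congrArg (fun ψ => ψ.hom.hom) hc''⟩)) }

theorem homGlue_endo [Coh.IsQCoh F] :
    Groth.L09.StackBG.HomGlue (HiggsSt.Endo f F) (Groth.L09.StackBG.Jq S) := by
  intro x y b R hR T hTb hTn
  let x' : (ModSt.Coh f).obj := ⟨x.obj.toObj, x.property⟩
  let y' : (ModSt.Coh f).obj := ⟨y.obj.toObj, y.property⟩
  let lift : ∀ ⦃z : (ModSt.Coh f).obj⦄ (π : z ⟶ x'), overEndo z.property π.hom ⟶ x := fun z π =>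
    ObjectProperty.homMk (overHom π.hom)
  let T' : ∀ ⦃z : (ModSt.Coh f).obj⦄ (π : z ⟶ x'), R ((ModSt.Coh f).p.map π) → (z ⟶ y') := fun z π hπ =>
    ObjectProperty.homMk (T (lift π) hπ).hom.hom
  obtain ⟨h, ⟨hhb, hh⟩, huniq⟩ := Groth.L09.ModStack.homGlue (P := ModSt.IsCohObj (f := f)) isQCoh_of_isCohObj
    isCohObj_bc x' y' b R hR T' (fun z π hπ => hTb (lift π) hπ) fun z' z n π π' hπ hπ' e => by
      let n' : overEndo z'.property π'.hom ⟶ overEndo z.property π.hom :=
        ObjectProperty.homMk ⟨n.hom, compat_cancel (overHom π.hom).compat (by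
          have e' : n.hom ≫ π.hom = π'.hom := congrArg InducedCategory.Hom.hom e
          show HiggsSt.Obj.Compat (overObj π'.hom) x.obj (n.hom ≫ π.hom)
          rw [e']
          exact (overHom π'.hom).compat)⟩
      have e' : n.hom ≫ π.hom = π'.hom := congrArg InducedCategory.Hom.hom e
      exact InducedCategory.hom_ext (congrArg (fun ψ => ψ.hom.hom) (hTn n' (lift π) (lift π') hπ hπ'
        (InducedCategory.hom_ext (HiggsSt.Obj.hom_ext e'))))
  obtain ⟨κ, W, g, hg, hk⟩ := Groth.L09.StackBG.exists_small_cover hR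
  haveI := isQCoh_twisted x.obj x.property
  let zk : ∀ k, (ModSt.Coh f).obj := fun k => ⟨bc x.obj.toObj (g k), isCohObj_bc _ _ _ x.property⟩
  let πk : ∀ k, zk k ⟶ x' := fun k => ObjectProperty.homMk (bcHom x.obj.toObj (g k))
  have hcompat : HiggsSt.Obj.Compat x.obj y.obj h.hom := by
    refine compat_of_cover h.hom (z := fun k => overObj (πk k).hom) (fun k => (πk k).hom)
      (cover_bc x.obj.toObj g hg) (fun k => (overHom (πk k).hom).compat) fun k => ?_
    have e : (πk k).hom ≫ h.hom = (T (lift (πk k)) (hk k)).hom.hom :=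
      congrArg InducedCategory.Hom.hom (hh (πk k) (hk k))
    show HiggsSt.Obj.Compat (overObj (πk k).hom) y.obj ((πk k).hom ≫ h.hom)
    rw [e]
    exact (T (lift (πk k)) (hk k)).hom.compat
  have agree : ∀ ⦃z : (HiggsSt.Endo f F).obj⦄ (π : z ⟶ x) (hπ : R ((HiggsSt.Endo f F).p.map π)),
      (T' (z := ⟨z.obj.toObj, z.property⟩) (ObjectProperty.homMk π.hom.hom) hπ).hom = (T π hπ).hom.hom := by
    intro z π hπ
    let ε : z ⟶ overEndo z.property π.hom.hom := ObjectProperty.homMk ⟨𝟙 z.obj.toObj,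
      compat_cancel (overHom π.hom.hom).compat (by
        show HiggsSt.Obj.Compat z.obj x.obj (𝟙 z.obj.toObj ≫ π.hom.hom)
        rw [Category.id_comp]
        exact π.hom.compat)⟩
    have e := hTn ε (lift (z := ⟨z.obj.toObj, z.property⟩) (ObjectProperty.homMk π.hom.hom)) π hπ hπ
      (InducedCategory.hom_ext (HiggsSt.Obj.hom_ext (Category.id_comp _)))
    exact (Category.id_comp _).symm.trans (congrArg (fun ψ => ψ.hom.hom) e)
  refine ⟨ObjectProperty.homMk ⟨h.hom, hcompat⟩, ⟨hhb, fun z π hπ => ?_⟩, ?_⟩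
  · refine InducedCategory.hom_ext (HiggsSt.Obj.hom_ext ?_)
    refine (congrArg InducedCategory.Hom.hom
      (hh (z := ⟨z.obj.toObj, z.property⟩) (ObjectProperty.homMk π.hom.hom) hπ)).trans (agree π hπ)
  · rintro h' ⟨hb', hh'⟩
    refine InducedCategory.hom_ext (HiggsSt.Obj.hom_ext ?_)
    refine congrArg InducedCategory.Hom.hom (huniq (ObjectProperty.homMk h'.hom.hom : x' ⟶ y')
      ⟨hb', fun z π hπ => InducedCategory.hom_ext ?_⟩)
    exact congrArg (fun ψ => ψ.hom.hom) (hh' (lift π) hπ)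

/-- Compatible morphisms of pullbacks descend. -/
theorem exists_of_xi {ι : Type u} {Y : Scheme.{u}} {Z : ι → Scheme.{u}} {h : ∀ i, Z i ⟶ Y}
    (hh : Presieve.ofArrows Z h ∈ Scheme.fpqcPrecoverage Y) (M N : Y.Modules) [Coh.IsQCoh N]
    (η : ∀ i, Mo M (h i) ⟶ Mo N (h i))
    (key : ∀ (T : Scheme.{u}) (q : T ⟶ Y) (i i' : ι) (l : T ⟶ Z i) (l' : T ⟶ Z i') (hl : l ≫ h i = q)
      (hl' : l' ≫ h i' = q), xi (η i) l q hl = xi (η i') l' q hl') :
    ∃ φ : M ⟶ N, ∀ i, (Scheme.Modules.pullback (h i)).map φ = η i := by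
  let H : (Desc.modPF.{u}.toDescentData h).obj M ⟶ (Desc.modPF.{u}.toDescentData h).obj N :=
    { hom := η
      comm := fun T q i i' l l' hl hl' => by
        have hξ : ∀ (k : ι) (l : T ⟶ Z k) (hl : l ≫ h k = q),
            (Scheme.Modules.pullback l).map (η k) ≫ θ N l (h k) q hl = θ M l (h k) q hl ≫ xi (η k) l q hl :=
          fun k l hl => (Iso.hom_inv_id_assoc (θi M l (h k) q hl) _).symm
        refine (cancel_mono (θ N l' (h i') q hl')).1 ?_
        refine (Category.assoc _ _ _).trans ?_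
        refine ((congrArg (_ ≫ ·) (toDD_hom_θ (g := h) N q l l' hl hl')).trans (hξ i l hl)).trans ?_
        rw [← toDD_hom_θ (g := h) M q l l' hl hl', key T q i i' l l' hl hl']
        refine (Category.assoc _ _ _).trans ?_
        refine Eq.trans ?_ (Category.assoc _ _ _).symm
        exact congrArg (_ ≫ ·) (hξ i' l' hl').symm }
  obtain ⟨φ, hφ⟩ := (Groth.L19.QCohFpqc.bijective_toDescentData_map hh N M).2 H
  exact ⟨φ, fun i => congrArg (fun z => Pseudofunctor.DescentData.Hom.hom z i) hφ⟩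

/-- A twisted endomorphism pulling back to the given one is compatible. -/
theorem compat_of_map (B : HiggsSt.Obj f F) {x : ModSt.Obj f} (g : B.toObj ⟶ x)
    (φ : x.E ⟶ CohB1.tensorMod x.E (Mo F x.p))
    (e : (Scheme.Modules.pullback g.top).map φ = eta (B := B) (C := mkObj x 0) g) :
    HiggsSt.Obj.Compat B (mkObj x φ) g := by
  rw [compat_iff]
  refine adjn_injective _ _ _ ?_
  rw [adjn_pre]
  exact (congrArg (· ≫ _) e).trans (eta_Tof (B := B) (C := mkObj x 0) g)

section Objects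

variable [Coh.IsQCoh F] {U : Over S} {R : Sieve U} (Γ : Stk.sieveCat R ⥤ᵇ HiggsSt.Endo f F)

/-- The underlying functor to modules. -/
abbrev under : Stk.sieveCat R ⥤ᵇ ModSt.Coh f := BasedFunctor.comp Γ (HiggsSt.Endo.forget f F)

omit [Coh.IsQCoh F] in
theorem compat_mp {a b : (Stk.sieveCat R).obj} (φ : a ⟶ b) :
    HiggsSt.Obj.Compat (Γ.obj a).obj (Γ.obj b).obj (mp (under Γ) φ) := (Γ.map φ).hom.compat

omit [Coh.IsQCoh F] in
theorem xi_eta_eq {κ : Type u} {W : κ → Scheme.{u}} (g : ∀ k, W k ⟶ U.left)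
    (hk : ∀ k, R (Over.homMk (g k) : Over.mk (g k ≫ U.hom) ⟶ U)) (x₀ : HiggsSt.Obj f F)
    (τ : ∀ a : (Stk.sieveCat R).obj, A (under Γ) a ⟶ x₀.toObj) (j : x₀.XT ⟶ pullback f U.hom)
    (hj : ∀ a, (τ a).top ≫ j = u_ (under Γ) a)
    (hτ : ∀ {a b : (Stk.sieveCat R).obj} (φ : a ⟶ b), mp (under Γ) φ ≫ τ b = τ a)
    {T : Scheme.{u}} (q : T ⟶ x₀.XT) (i i' : κ) (l : T ⟶ (A (under Γ) (ak g hk i)).XT)
    (l' : T ⟶ (A (under Γ) (ak g hk i')).XT) (hl : l ≫ (τ (ak g hk i)).top = q)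
    (hl' : l' ≫ (τ (ak g hk i')).top = q) :
    xi (eta (B := (Γ.obj (ak g hk i)).obj) (C := x₀) (τ (ak g hk i))) l q hl =
      xi (eta (B := (Γ.obj (ak g hk i')).obj) (C := x₀) (τ (ak g hk i'))) l' q hl' := by
  have h1 : l ≫ u_ (under Γ) (ak g hk i) = q ≫ j := by rw [← hj, reassoc_of% hl]
  have h2 : l' ≫ u_ (under Γ) (ak g hk i') = q ≫ j := by rw [← hj, reassoc_of% hl']
  have hR := mem_of_point (under Γ) (q ≫ j) (ak g hk i) l h1
  let c := Groth.L09.ModStack.cq (q ≫ j) hR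
  have step : ∀ (k : κ) (m : c ⟶ ak g hk k) (l : T ⟶ (A (under Γ) (ak g hk k)).XT)
      (hm : lq (under Γ) (q ≫ j) hR ≫ (mp (under Γ) m).top = l) (hl : l ≫ (τ (ak g hk k)).top = q)
      (hc : lq (under Γ) (q ≫ j) hR ≫ (τ c).top = q),
      xi (eta (B := (Γ.obj (ak g hk k)).obj) (C := x₀) (τ (ak g hk k))) l q hl =
        xi (eta (B := (Γ.obj c).obj) (C := x₀) (τ c)) (lq (under Γ) (q ≫ j) hR) q hc := fun k m l hm hl hc =>
    xi_comp _ _ (mp (under Γ) m).top (congrArg ModSt.Obj.Hom.top (hτ m))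
      (eta_natural (A := (Γ.obj c).obj) (B := (Γ.obj (ak g hk k)).obj) (C := x₀) (compat_mp Γ m) (τ (ak g hk k)) (τ c)
        (hτ m) _) _ l q hm hl hc
  have e1 := lq_top (under Γ) (q ≫ j) hR (ak g hk i) l h1
  have hc : lq (under Γ) (q ≫ j) hR ≫ (τ c).top = q := by
    rw [← hτ (dTo (under Γ) (q ≫ j) hR (ak g hk i) l h1)]
    show _ ≫ (mp (under Γ) _).top ≫ _ = _
    rw [← Category.assoc, e1, hl]
  rw [step i _ l e1 hl hc, step i' _ l' (lq_top (under Γ) (q ≫ j) hR (ak g hk i') l' h2) hl' hc]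

omit [Coh.IsQCoh F] in
theorem compat_congr {A B : HiggsSt.Obj f F} {g g' : A.toObj ⟶ B.toObj} (e : g = g')
    (h : HiggsSt.Obj.Compat A B g) : HiggsSt.Obj.Compat A B g' := e ▸ h

theorem compat_cocone {κ : Type u} {W : κ → Scheme.{u}} (g : ∀ k, W k ⟶ U.left)
    (hg : Presieve.ofArrows W g ∈ Scheme.fpqcPrecoverage U.left)
    (hk : ∀ k, R (Over.homMk (g k) : Over.mk (g k ≫ U.hom) ⟶ U)) (y : HiggsSt.Obj f F)
    (τ : ∀ a : (Stk.sieveCat R).obj, A (under Γ) a ⟶ y.toObj)
    (hτ : ∀ {a b : (Stk.sieveCat R).obj} (φ : a ⟶ b), mp (under Γ) φ ≫ τ b = τ a)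
    (hbase : ∀ k, HiggsSt.Obj.Compat (Γ.obj (ak g hk k)).obj y (τ (ak g hk k))) (a : (Stk.sieveCat R).obj) :
    HiggsSt.Obj.Compat (Γ.obj a).obj y (τ a) := by
  haveI := isQCoh_twisted (Γ.obj a).obj (Γ.obj a).property
  refine compat_of_cover (A := (Γ.obj a).obj) (B := y) (τ a) (z := fun k => (Γ.obj (cObj (under Γ) g a k)).obj)
    (fun k => mp (under Γ) (nA (under Γ) g a k)) (cover_cObj (under Γ) g a hg) (fun k => compat_mp Γ _) fun k => ?_
  have e : mp (under Γ) (nK (under Γ) g hk a k) ≫ τ (ak g hk k) = mp (under Γ) (nA (under Γ) g a k) ≫ τ a :=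
    (hτ (nK (under Γ) g hk a k)).trans (hτ (nA (under Γ) g a k)).symm
  exact compat_congr (A := (Γ.obj (cObj (under Γ) g a k)).obj) (B := y) e
    (HiggsSt.Obj.compat_comp (compat_mp Γ (nK (under Γ) g hk a k)) (hbase k))

theorem exists_cocone_endo {κ : Type u} {W : κ → Scheme.{u}} (g : ∀ k, W k ⟶ U.left)
    (hg : Presieve.ofArrows W g ∈ Scheme.fpqcPrecoverage U.left)
    (hk : ∀ k, R (Over.homMk (g k) : Over.mk (g k ≫ U.hom) ⟶ U))
    (x : ModSt.Obj f) (hx : ModSt.IsCohObj x) (bU : x.base ⟶ U) [IsIso bU]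
    (τ : ∀ a : (Stk.sieveCat R).obj, A (under Γ) a ⟶ x)
    (hτb : ∀ a, (τ a).base ≫ bU = β (under Γ) a)
    (hτ : ∀ {a b : (Stk.sieveCat R).obj} (φ : a ⟶ b), mp (under Γ) φ ≫ τ b = τ a) :
    ∃ φ : x.E ⟶ CohB1.tensorMod x.E (Mo F x.p), ∀ a : (Stk.sieveCat R).obj,
      HiggsSt.Obj.Compat (Γ.obj a).obj (mkObj x φ) (τ a) := by
  haveI := isQCoh_of_isCohObj _ hx
  haveI : Coh.IsQCoh (CohB1.tensorMod x.E (Mo F x.p)) := isQCoh_twisted (mkObj x 0) hx
  -- the cover of the total space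
  haveI : IsIso bU.left := inferInstanceAs (IsIso ((Over.forget S).map bU))
  haveI : ∀ k, IsIso (eb (under Γ) (ak g hk k)).left := fun k =>
    inferInstanceAs (IsIso ((Over.forget S).map (eb (under Γ) (ak g hk k))))
  have hcov : Presieve.ofArrows (fun k => (A (under Γ) (ak g hk k)).XT) (fun k => (τ (ak g hk k)).top) ∈
      Scheme.fpqcPrecoverage x.XT := by
    have h1 : Presieve.ofArrows (fun k => (A (under Γ) (ak g hk k)).base.left)
        (fun k => (τ (ak g hk k)).base.left) ∈ Scheme.fpqcPrecoverage x.base.left := by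
      refine mem_fpqc_of_squares (fun k => (eb (under Γ) (ak g hk k)).left) hg (Q := bU.left)
        (q := fun k => 𝟙 _) fun k => IsPullback.of_vert_isIso ⟨?_⟩
      rw [Category.id_comp, ← Over.comp_left, hτb]
      rfl
    exact Precoverage.mem_coverings_of_isPullback _ h1 x.q _ _ fun k => (τ (ak g hk k)).isPullback_top
  -- the descended endomorphism
  let j : x.XT ⟶ pullback f U.hom := pullback.lift x.p (x.q ≫ bU.left)
    (by rw [Category.assoc, Over.w, x.isPullback.w])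
  have hj : ∀ a, (τ a).top ≫ j = u_ (under Γ) a := fun a => by
    refine pullback.hom_ext ?_ ?_
    · rw [Category.assoc, pullback.lift_fst, Groth.L09.ModStack.u_fst, (τ a).w_p]
    · rw [Category.assoc, pullback.lift_snd, Groth.L09.ModStack.u_snd, reassoc_of% (τ a).w_q,
        ← Over.comp_left, hτb]
  let x₀ : HiggsSt.Obj f F := mkObj x 0
  obtain ⟨φ, hφ⟩ := exists_of_xi hcov x.E (CohB1.tensorMod x.E (Mo F x.p))
    (fun k => eta (B := (Γ.obj (ak g hk k)).obj) (C := x₀) (τ (ak g hk k)))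
    (fun T q i i' => xi_eta_eq Γ g hk x₀ τ j hj hτ q i i')
  have hbase : ∀ k, HiggsSt.Obj.Compat (Γ.obj (ak g hk k)).obj (mkObj x φ) (τ (ak g hk k)) := fun k =>
    compat_of_map (Γ.obj (ak g hk k)).obj (τ (ak g hk k)) φ (hφ k)
  exact ⟨φ, compat_cocone Γ g hg hk (mkObj x φ) τ hτ hbase⟩

end Objects

theorem objGlue_endo [Coh.IsQCoh F] :
    Groth.L09.StackBG.ObjGlue (HiggsSt.Endo f F) (Groth.L09.StackBG.Jq S) := by
  intro U R hR Γ
  obtain ⟨κ, W, g, hg, hk⟩ := Groth.L09.StackBG.exists_small_cover hR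
  haveI : ∀ a : (Stk.sieveCat R).obj, Coh.IsQCoh (A (under Γ) a).E := fun a =>
    isQCoh_of_isCohObj _ ((under Γ).obj a).property
  obtain ⟨x, e, τ, hxq, hτb, hτ⟩ := exists_cocone (under Γ) g hk hg
  subst e
  simp only [eqToHom_refl, Category.comp_id] at hτb
  haveI : ∀ k, IsIso (eb (under Γ) (ak g hk k)).left := fun k =>
    inferInstanceAs (IsIso ((Over.forget S).map (eb (under Γ) (ak g hk k))))
  have hcov : Presieve.ofArrows (fun k => (A (under Γ) (ak g hk k)).base.left)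
      (fun k => (τ (ak g hk k)).base.left) ∈ Scheme.fpqcPrecoverage x.base.left := by
    refine mem_fpqc_of_squares (fun k => (eb (under Γ) (ak g hk k)).left) hg (Q := 𝟙 x.base.left)
      (q := fun k => 𝟙 _) fun k => ?_
    have hl : (τ (ak g hk k)).base.left = (eb (under Γ) (ak g hk k)).left ≫ g k :=
      congrArg CommaMorphism.left (hτb (ak g hk k))
    exact IsPullback.of_vert_isIso ⟨by rw [hl, Category.id_comp, Category.comp_id]⟩
  have hx : ModSt.IsCohObj x := descendsFpqc_isCohObj x hxq κ _ (fun k => τ (ak g hk k)) hcov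
    fun k => ((under Γ).obj (ak g hk k)).property
  obtain ⟨φ, hφ⟩ := exists_cocone_endo Γ g hg hk x hx (𝟙 x.base) τ
    (fun a => (Category.comp_id _).trans (hτb a)) hτ
  refine ⟨⟨mkObj x φ, hx⟩, rfl, fun a => ObjectProperty.homMk ⟨τ a, hφ a⟩, fun a => ?_,
    fun {a b} m => InducedCategory.hom_ext (HiggsSt.Obj.hom_ext (hτ m))⟩
  rw [eqToHom_refl]
  exact (Category.comp_id _).trans (hτb a)

/-- Pairs form an fpqc stack. -/
theorem isStack_endo_fpqc [Coh.IsQCoh F] : Stk.IsStack (Groth.L09.StackBG.Jq S) (HiggsSt.Endo f F) :=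
  Groth.L09.StackBG.isStack_of_glue isFibGrpd_endo homGlue_endo objGlue_endo

theorem etale_le_fpqc (S : Scheme.{u}) :
    QuotSh.J Scheme.etalePrecoverage S ≤ Groth.L09.StackBG.Jq S := fun U R hR => by
  rw [GrothendieckTopology.mem_over_iff] at hR ⊢
  exact Precoverage.toGrothendieck_mono (le_trans Scheme.etalePrecoverage_le_proetalePrecoverage
    Scheme.proetalePrecoverage_le_fpqcPrecoverage) _ hR

end Groth.L09.HiggsStack
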