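import Groth.Agent.L09.ModStack.Glue
import Groth.Agent.L29.DCoh.PullTensor
import Groth.Agent.L00.TensorQCoh
import Groth.Prelude.Def_HiggsSt

/-!
# Comparison maps of twisted modules
-/

set_option autoImplicit false
set_option backward.isDefEq.respectTransparency false
set_option backward.isDefEq.respectTransparency.types false
set_option linter.style.haveILetI false

universe u

open CategoryTheory CategoryTheory.Limits MonoidalCategory AlgebraicGeometry Opposite TensorProduct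

noncomputable section

namespace Groth.L09.HiggsStack

open Groth.L00.Tensor Groth.L17.ClosedPush
open Groth.L18.Frame (rs rs_rs rs_self pull pull_rs)
open Groth.L17.BC.PullSec (app_rs)
open Groth.L27.Assoc (Mo θ ext_pull)
open Groth.L09.ModStack (θi θ_pull map_pull ext_pull₂ tr)

variable {Y Z W : Scheme.{u}}

/-- The adjoint of a comparison map. -/
def adjn (h : Y ⟶ Z) {N : Z.Modules} {M : Y.Modules} (c : N ⟶ (Scheme.Modules.pushforward h).obj M) :
    Mo N h ⟶ M :=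
  ((Scheme.Modules.pullbackPushforwardAdjunction h).homEquiv N M).symm c

theorem adjn_pull (h : Y ⟶ Z) {N : Z.Modules} {M : Y.Modules} (c : N ⟶ (Scheme.Modules.pushforward h).obj M)
    (V : Z.Opens) (s : Γ(N, V)) : (adjn h c).app (h ⁻¹ᵁ V) (pull h N V s) = c.app V s := by
  have e := (Scheme.Modules.pullbackPushforwardAdjunction h).homEquiv_unit N M (adjn h c)
  rw [adjn, Equiv.apply_symm_apply] at e
  exact congr($(congrArg (fun ψ => Scheme.Modules.Hom.app ψ V) e) s).symm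

theorem adjn_push (h : Y ⟶ Z) {N : Z.Modules} {M M' : Y.Modules} (c : N ⟶ (Scheme.Modules.pushforward h).obj M)
    (v : M ⟶ M') : adjn h (c ≫ (Scheme.Modules.pushforward h).map v) = adjn h c ≫ v :=
  Adjunction.homEquiv_naturality_right_symm _ c v

theorem adjn_pre (h : Y ⟶ Z) {N N' : Z.Modules} {M : Y.Modules} (w : N' ⟶ N)
    (c : N ⟶ (Scheme.Modules.pushforward h).obj M) :
    adjn h (w ≫ c) = (Scheme.Modules.pullback h).map w ≫ adjn h c :=
  Adjunction.homEquiv_naturality_left_symm _ w c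

theorem adjn_injective (h : Y ⟶ Z) (N : Z.Modules) (M : Y.Modules) :
    Function.Injective (adjn h : (N ⟶ (Scheme.Modules.pushforward h).obj M) → (Mo N h ⟶ M)) :=
  ((Scheme.Modules.pullbackPushforwardAdjunction h).homEquiv N M).symm.injective

theorem adjn_comp {h₁ : Y ⟶ Z} {h₂ : Z ⟶ W} {P : W.Modules} {N : Z.Modules} {M : Y.Modules}
    (c₁ : N ⟶ (Scheme.Modules.pushforward h₁).obj M) (c₂ : P ⟶ (Scheme.Modules.pushforward h₂).obj N)
    (h : Y ⟶ W) (e : h₁ ≫ h₂ = h) (c : P ⟶ (Scheme.Modules.pushforward h).obj M)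
    (hc : HEq c (c₂ ≫ (Scheme.Modules.pushforward h₂).map c₁ ≫
      (Scheme.Modules.pushforwardComp h₁ h₂).hom.app M)) :
    θ P h₁ h₂ h e ≫ adjn h c = (Scheme.Modules.pullback h₁).map (adjn h₂ c₂) ≫ adjn h₁ c₁ := by
  subst e
  obtain rfl := eq_of_heq hc
  refine ext_pull₂ h₁ h₂ fun V s => ?_
  rw [Scheme.Modules.Hom.comp_app, Scheme.Modules.Hom.comp_app]
  refine (congrArg ((adjn (h₁ ≫ h₂) (c₂ ≫ (Scheme.Modules.pushforward h₂).map c₁ ≫
    (Scheme.Modules.pushforwardComp h₁ h₂).hom.app M)).app (h₁ ⁻¹ᵁ (h₂ ⁻¹ᵁ V)))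
    (θ_pull P h₁ h₂ (h₁ ≫ h₂) rfl V s)).trans ?_
  rw [rs_self]
  refine (adjn_pull (h₁ ≫ h₂) _ V s).trans ?_
  refine Eq.trans ?_ (congrArg ((adjn h₁ c₁).app (h₁ ⁻¹ᵁ (h₂ ⁻¹ᵁ V)))
    (map_pull h₁ (adjn h₂ c₂) (h₂ ⁻¹ᵁ V) (pull h₂ P V s))).symm
  rw [adjn_pull h₂ c₂ V s]
  exact (adjn_pull h₁ c₁ (h₂ ⁻¹ᵁ V) (c₂.app V s)).symm

/-- The comparison map of tensor products. -/
def tens (h : Y ⟶ Z) {E₁ F₁ : Z.Modules} {E₂ F₂ : Y.Modules}
    (c : E₁ ⟶ (Scheme.Modules.pushforward h).obj E₂) (cF : F₁ ⟶ (Scheme.Modules.pushforward h).obj F₂) :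
    CohB1.tensorMod E₁ F₁ ⟶ (Scheme.Modules.pushforward h).obj (CohB1.tensorMod E₂ F₂) :=
  tensorMap c cF ≫ μ h E₂ F₂

theorem tens_pin (h : Y ⟶ Z) {E₁ F₁ : Z.Modules} {E₂ F₂ : Y.Modules}
    (c : E₁ ⟶ (Scheme.Modules.pushforward h).obj E₂) (cF : F₁ ⟶ (Scheme.Modules.pushforward h).obj F₂) :
    HiggsSt.TmulPin h c cF (tens h c cF) := fun U e w =>
  (congrArg ((μ h E₂ F₂).app U) (tensorMap_unit c cF U e w)).trans (μ_unit h E₂ F₂ U _ _)

theorem pin_unique (h : Y ⟶ Z) {E₁ F₁ : Z.Modules} {E₂ F₂ : Y.Modules}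
    {c : E₁ ⟶ (Scheme.Modules.pushforward h).obj E₂} {cF : F₁ ⟶ (Scheme.Modules.pushforward h).obj F₂}
    {T : CohB1.tensorMod E₁ F₁ ⟶ (Scheme.Modules.pushforward h).obj (CohB1.tensorMod E₂ F₂)}
    (hT : HiggsSt.TmulPin h c cF T) : T = tens h c cF := by
  refine ((shAdj Z).homEquiv (pre E₁ ⊗ pre F₁) _).injective ?_
  refine ((shAdj Z).homEquiv_unit ..).trans (Eq.trans ?_ ((shAdj Z).homEquiv_unit ..).symm)
  refine PresheafOfModules.hom_ext fun V => ModuleCat.MonoidalCategory.tensor_ext fun m a => ?_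
  exact (hT V.unop m a).trans (tens_pin h c cF V.unop m a).symm

theorem adjn_tens (h : Y ⟶ Z) {E₁ F₁ : Z.Modules} {E₂ F₂ : Y.Modules}
    (c : E₁ ⟶ (Scheme.Modules.pushforward h).obj E₂) (cF : F₁ ⟶ (Scheme.Modules.pushforward h).obj F₂) :
    adjn h (tens h c cF) =
      Groth.L29.DC.PullTensor.δ h E₁ F₁ ≫ tensorMap (adjn h c) (adjn h cF) := by
  refine ((Scheme.Modules.pullbackPushforwardAdjunction h).homEquiv _ _).injective ?_
  rw [Adjunction.homEquiv_naturality_right]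
  simp only [adjn, Groth.L29.DC.PullTensor.δ, Equiv.apply_symm_apply, Groth.L29.DC.PullTensor.δ₀, Category.assoc]
  rw [← Groth.L29.DC.PullTensor.μ_natural, ← Category.assoc, ← tensorMap_comp]
  rw [← Adjunction.homEquiv_unit, ← Adjunction.homEquiv_unit, Equiv.apply_symm_apply, Equiv.apply_symm_apply]
  rfl

theorem isIso_adjn_tens (h : Y ⟶ Z) {E₁ F₁ : Z.Modules} {E₂ F₂ : Y.Modules}
    {c : E₁ ⟶ (Scheme.Modules.pushforward h).obj E₂} {cF : F₁ ⟶ (Scheme.Modules.pushforward h).obj F₂}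
    (hc : ModSt.IsCart h c) (hF : ModSt.IsCart h cF) : IsIso (adjn h (tens h c cF)) := by
  haveI : IsIso (adjn h c) := Groth.L09.ModStack.isIso_homEquiv_symm h hc
  haveI : IsIso (adjn h cF) := Groth.L09.ModStack.isIso_homEquiv_symm h hF
  haveI := Groth.L29.DC.PullTensor.isIso_δ h E₁ F₁
  haveI : IsIso (tensorMap (adjn h c) (adjn h cF)) :=
    inferInstanceAs (IsIso (Groth.L00.Tensor.tensorIso (asIso (adjn h c)) (asIso (adjn h cF))).hom)
  rw [adjn_tens]
  infer_instance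

/-- Comparison maps with iso adjoints along an fpqc cover are jointly injective. -/
theorem eq_of_cover {κ : Type u} {Zk : κ → Scheme.{u}} {g : ∀ k, Zk k ⟶ Y}
    (hg : Presieve.ofArrows Zk g ∈ Scheme.fpqcPrecoverage Y) {t : Y ⟶ Z} {P : Z.Modules} {N : Y.Modules}
    [Coh.IsQCoh N] {M : ∀ k, (Zk k).Modules} (T : ∀ k, N ⟶ (Scheme.Modules.pushforward (g k)).obj (M k))
    (hT : ∀ k, IsIso (adjn (g k) (T k))) {α β : P ⟶ (Scheme.Modules.pushforward t).obj N}
    (h : ∀ k, α ≫ (Scheme.Modules.pushforward t).map (T k) = β ≫ (Scheme.Modules.pushforward t).map (T k)) :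
    α = β := by
  refine adjn_injective t P N ((Groth.L19.QCohFpqc.bijective_toDescentData_map hg N (Mo P t)).1
    (Pseudofunctor.DescentData.hom_ext fun k => ?_))
  show (Scheme.Modules.pullback (g k)).map (adjn t α) = (Scheme.Modules.pullback (g k)).map (adjn t β)
  haveI := hT k
  rw [← cancel_mono (adjn (g k) (T k)), ← adjn_pre, ← adjn_pre, ← adjn_push, ← adjn_push, h k]

/-- Heterogeneous equality of comparison maps is checked on sections. -/
theorem heq_iff_app {t t' : Y ⟶ Z} (e : t = t') {P : Z.Modules} {M : Y.Modules}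
    (c : P ⟶ (Scheme.Modules.pushforward t).obj M) (c' : P ⟶ (Scheme.Modules.pushforward t').obj M) :
    HEq c c' ↔ ∀ (U : Z.Opens) (w : Γ(P, U)), HEq (c.app U w) (c'.app U w) := by
  subst e
  refine ⟨fun h => ?_, fun h => heq_of_eq (Scheme.Modules.hom_ext _ _ fun U => ?_)⟩
  · obtain rfl := eq_of_heq h
    exact fun U w => HEq.rfl
  · ext w
    exact eq_of_heq (h U w)

variable {X S : Scheme.{u}} {f : X ⟶ S} {F : X.Modules}

/-- The condition on the comparison map of twisting modules. -/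
def FCond {A B : HiggsSt.Obj f F} (g : A.toObj ⟶ B.toObj)
    (cF : B.FT ⟶ (Scheme.Modules.pushforward g.top).obj A.FT) : Prop :=
  ∀ (U : X.Opens) (w : Γ(F, U)), HEq (cF.app (B.p ⁻¹ᵁ U) (B.ι.app U w)) (A.ι.app U w)

theorem fcond_iff {A B : HiggsSt.Obj f F} (g : A.toObj ⟶ B.toObj)
    (cF : B.FT ⟶ (Scheme.Modules.pushforward g.top).obj A.FT) :
    FCond g cF ↔ HEq (B.ι ≫ (Scheme.Modules.pushforward B.p).map cF ≫
      (Scheme.Modules.pushforwardComp g.top B.p).hom.app A.FT) A.ι :=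
  ⟨fun h => (heq_iff_app g.w_p _ _).2 fun U w => h U w, fun h U w => (heq_iff_app g.w_p _ _).1 h U w⟩

theorem exists_cF {A B : HiggsSt.Obj f F} (g : A.toObj ⟶ B.toObj) :
    ∃ cF : B.FT ⟶ (Scheme.Modules.pushforward g.top).obj A.FT,
      ModSt.IsCart g.top cF ∧ FCond g cF ∧ ∀ cF', FCond g cF' → cF' = cF := by
  obtain ⟨c, h₁, h₂, h₃⟩ := Groth.Agent.S17417.cart_factor B.ιcart g.w_p.symm A.ιcart
  exact ⟨c, h₁, (fcond_iff g c).2 h₂, fun c' hc' => h₃ c' ((fcond_iff g c').1 hc')⟩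

/-- The comparison map of twisting modules. -/
def cFof {A B : HiggsSt.Obj f F} (g : A.toObj ⟶ B.toObj) :
    B.FT ⟶ (Scheme.Modules.pushforward g.top).obj A.FT :=
  (exists_cF g).choose

/-- The comparison map of twisted modules. -/
def Tof {A B : HiggsSt.Obj f F} (g : A.toObj ⟶ B.toObj) :
    CohB1.tensorMod B.E B.FT ⟶ (Scheme.Modules.pushforward g.top).obj (CohB1.tensorMod A.E A.FT) :=
  tens g.top g.c (cFof g)

theorem isIso_adjn_Tof {A B : HiggsSt.Obj f F} (g : A.toObj ⟶ B.toObj) : IsIso (adjn g.top (Tof g)) :=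
  isIso_adjn_tens g.top g.cart (exists_cF g).choose_spec.1

theorem compat_iff {A B : HiggsSt.Obj f F} (g : A.toObj ⟶ B.toObj) :
    HiggsSt.Obj.Compat A B g ↔ B.φ ≫ Tof g = g.c ≫ (Scheme.Modules.pushforward g.top).map A.φ := by
  refine ⟨fun ⟨cF, T, h₁, h₂, h₃⟩ => ?_, fun h => ⟨cFof g, Tof g, (exists_cF g).choose_spec.2.1,
    tens_pin g.top g.c (cFof g), h⟩⟩
  obtain rfl : cF = cFof g := (exists_cF g).choose_spec.2.2 cF h₁
  rw [Tof, ← pin_unique g.top h₂]
  exact h₃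

theorem Tof_comp {A B C : HiggsSt.Obj f F} (g₁ : A.toObj ⟶ B.toObj) (g₂ : B.toObj ⟶ C.toObj) :
    Tof (g₁ ≫ g₂) = Tof g₂ ≫ (Scheme.Modules.pushforward g₂.top).map (Tof g₁) ≫
      (Scheme.Modules.pushforwardComp g₁.top g₂.top).hom.app (CohB1.tensorMod A.E A.FT) := by
  symm
  have hF : FCond (g₁ ≫ g₂) (cFof g₂ ≫ (Scheme.Modules.pushforward g₂.top).map (cFof g₁) ≫
      (Scheme.Modules.pushforwardComp g₁.top g₂.top).hom.app A.FT) := by
    intro U w
    have e : g₂.top ⁻¹ᵁ (C.p ⁻¹ᵁ U) = B.p ⁻¹ᵁ U := by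
      rw [← g₂.w_p]; rfl
    exact (HiggsSt.app_heq (cFof g₁) e ((exists_cF g₂).choose_spec.2.1 U w)).trans
      ((exists_cF g₁).choose_spec.2.1 U w)
  refine (pin_unique _ (HiggsSt.TmulPin.comp (tens_pin g₂.top g₂.c (cFof g₂))
    (tens_pin g₁.top g₁.c (cFof g₁)))).trans ?_
  rw [(exists_cF (g₁ ≫ g₂)).choose_spec.2.2 _ hF]
  rfl

end Groth.L09.HiggsStack
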